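import Mathlib

/-!
# The alternating sum over permutations of the numbers of chains

For a finite poset with a strictly monotone rank, the sum over the permutations `κ` with `κ i ≤ i + 1`
of `sign κ` times the number of chains with steps `i + 1 - κ i` is determined by a recursion over the
elements above the starting point.
-/

set_option autoImplicit false

namespace Cfsg.Lib.Linear.StValue

open Finset

variable {L : Type*} [PartialOrder L] [Fintype L] (dm : L → ℕ)

open scoped Classical in
/-- The elements above `U` with rank exceeding it by `a`. -/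
noncomputable def above (U : L) (a : ℕ) : Finset L :=
  Finset.univ.filter fun W => U ≤ W ∧ dm W = dm U + a

/-- The chains starting at `U` with the given steps. -/
noncomputable def chains : ∀ n : ℕ, (Fin n → ℕ) → L → ℕ
  | 0, _, _ => 1
  | n + 1, c, U => ∑ W ∈ above dm U (c 0), chains n (fun i => c i.succ) W

theorem above_zero (hdm : StrictMono dm) (U : L) : above dm U 0 = {U} := by
  ext W
  simp only [above, mem_filter, mem_univ, true_and, mem_singleton, add_zero]
  refine ⟨fun h => ?_, fun h => h ▸ ⟨le_rfl, rfl⟩⟩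
  rcases lt_or_eq_of_le h.1 with h' | h'
  · exact absurd (hdm h') (by omega)
  · exact h'.symm

/-- The steps attached to a permutation, with an excess at the place of `0`. -/
def steps {n : ℕ} (b : ℕ) (κ : Equiv.Perm (Fin n)) (i : Fin n) : ℕ :=
  i.val + 1 - (κ i).val + if (κ i).val = 0 then b else 0

/-- The admissible permutations. -/
def Adm {n : ℕ} (κ : Equiv.Perm (Fin n)) : Prop := ∀ i : Fin n, (κ i).val ≤ i.val + 1

open scoped Classical in
/-- The alternating sum. -/
noncomputable def altSum (n b : ℕ) (U : L) : ℂ :=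
  ∑ κ : Equiv.Perm (Fin n),
    if Adm κ then ((Equiv.Perm.sign κ : ℤ) : ℂ) * (chains dm n (steps b κ) U : ℂ) else 0

theorem altSum_zero (b : ℕ) (U : L) : altSum dm 0 b U = 1 := by
  classical
  rw [altSum, Fintype.sum_subsingleton _ (1 : Equiv.Perm (Fin 0)), if_pos (show Adm (1 : Equiv.Perm (Fin 0)) from fun i => i.elim0)]
  simp [chains]

section Split

variable {n : ℕ} (b : ℕ) (e : Equiv.Perm (Fin n))

theorem zero_case :
    (Adm (Equiv.Perm.decomposeFin.symm (0, e)) ↔ Adm e) ∧
    steps b (Equiv.Perm.decomposeFin.symm (0, e)) 0 = b + 1 ∧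
    (fun i : Fin n => steps b (Equiv.Perm.decomposeFin.symm (0, e)) i.succ) = steps 0 e := by
  refine ⟨⟨fun h i => ?_, fun h => Fin.forall_fin_succ.2 ⟨by simp, fun i => ?_⟩⟩, ?_, funext fun i => ?_⟩
  · have := h i.succ
    simp [Equiv.Perm.decomposeFin_symm_apply_succ] at this
    omega
  · have := h i
    simp [Equiv.Perm.decomposeFin_symm_apply_succ]
    omega
  · simp [steps, add_comm]
  · simp only [steps, Equiv.Perm.decomposeFin_symm_apply_succ, Equiv.swap_self, Equiv.refl_apply, Fin.val_succ]
    simp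

end Split

theorem one_case {n : ℕ} (b : ℕ) (e : Equiv.Perm (Fin (n + 1))) :
    (Adm (Equiv.Perm.decomposeFin.symm (1, e)) ↔ Adm e) ∧
    steps b (Equiv.Perm.decomposeFin.symm (1, e)) 0 = 0 ∧
    (Adm e → (fun i : Fin (n + 1) => steps b (Equiv.Perm.decomposeFin.symm (1, e)) i.succ) = steps (b + 1) e) := by
  have hv : ∀ i, ((Equiv.Perm.decomposeFin.symm (1, e)) i.succ).val =
      if (e i).val = 0 then 0 else (e i).val + 1 := fun i => by
    rw [Equiv.Perm.decomposeFin_symm_apply_succ]
    split_ifs with h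
    · rw [show (e i).succ = (1 : Fin (n + 2)) from Fin.ext (by simp [h]), Equiv.swap_apply_right]
      rfl
    · rw [Equiv.swap_apply_of_ne_of_ne (Fin.succ_ne_zero _) (fun h' => h (by have h'' := congrArg Fin.val h'; simp at h''; simp [h'']))]
      simp
  refine ⟨⟨fun h i => ?_, fun h => Fin.forall_fin_succ.2 ⟨by simp, fun i => ?_⟩⟩, ?_, fun he => funext fun i => ?_⟩
  · have := h i.succ
    rw [hv, Fin.val_succ] at this
    split_ifs at this <;> omega
  · have := h i
    rw [hv, Fin.val_succ]
    split_ifs <;> omega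
  · simp [steps]
  · have := he i
    simp only [steps, hv, Fin.val_succ]
    by_cases h1 : (e i).val = 0
    · simp [h1]; omega
    · simp [h1]

theorem not_adm {n : ℕ} (p : Fin (n + 1)) (hp : 2 ≤ p.val) (e : Equiv.Perm (Fin n)) :
    ¬ Adm (Equiv.Perm.decomposeFin.symm (p, e)) := fun h => by
  have := h 0
  simp at this
  omega

variable (hdm : StrictMono dm)
include hdm

open scoped Classical in
theorem altSum_one (b : ℕ) (U : L) :
    altSum dm 1 b U = ∑ W ∈ above dm U (b + 1), altSum dm 0 0 W := by
  simp only [altSum_zero]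
  rw [altSum, Fintype.sum_subsingleton _ (1 : Equiv.Perm (Fin 1)), if_pos (show Adm (1 : Equiv.Perm (Fin 1)) from fun i => by simp)]
  simp [chains, steps, add_comm]

open scoped Classical in
theorem altSum_succ (n b : ℕ) (U : L) :
    altSum dm (n + 2) b U = ∑ W ∈ above dm U (b + 1), altSum dm (n + 1) 0 W - altSum dm (n + 1) (b + 1) U := by
  rw [altSum, ← Equiv.Perm.decomposeFin.symm.sum_comp, Fintype.sum_prod_type, Fin.sum_univ_succ, Fin.sum_univ_succ]
  have h2 : ∀ p : Fin n, ∑ e : Equiv.Perm (Fin (n + 1)),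
      (if Adm (Equiv.Perm.decomposeFin.symm (p.succ.succ, e)) then
        ((Equiv.Perm.sign (Equiv.Perm.decomposeFin.symm (p.succ.succ, e)) : ℤ) : ℂ) *
          (chains dm (n + 2) (steps b (Equiv.Perm.decomposeFin.symm (p.succ.succ, e))) U : ℂ) else 0) = 0 := fun p =>
    Finset.sum_eq_zero fun e _ => if_neg (not_adm _ (by simp) e)
  rw [Finset.sum_eq_zero (s := Finset.univ) (fun p _ => h2 p), add_zero, sub_eq_add_neg]
  congr 1
  · simp only [altSum]
    rw [Finset.sum_comm]
    refine Finset.sum_congr rfl fun e _ => ?_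
    obtain ⟨h, hh, ht⟩ := zero_case b e
    simp only [h]
    split_ifs with he
    · rw [chains, hh, ht, Equiv.Perm.decomposeFin.symm_sign, if_pos rfl, one_mul, Nat.cast_sum, Finset.mul_sum]
    · simp
  · rw [altSum, ← Finset.sum_neg_distrib]
    refine Finset.sum_congr rfl fun e _ => ?_
    rw [show (Fin.succ (0 : Fin (n + 1))) = 1 from rfl]
    obtain ⟨h, hh, ht⟩ := one_case b e
    simp only [h]
    split_ifs with he
    · rw [chains, hh, ht he, above_zero dm hdm, Finset.sum_singleton, Equiv.Perm.decomposeFin.symm_sign,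
        if_neg (by simp)]
      simp
    · simp

open scoped Classical in
/-- The alternating sum satisfies the dual recursion. -/
theorem altSum_eq [OrderTop L] (g : L → ℂ) (hg1 : g ⊤ = 1)
    (hg : ∀ U : L, U ≠ ⊤ → ∑ W ∈ Finset.univ.filter (fun W => U ≤ W), (-1 : ℂ) ^ dm W * g W = 0) :
    ∀ (n : ℕ) (U : L), dm U + n = dm ⊤ → altSum dm n 0 U = g U := by
  suffices key : ∀ n : ℕ, (∀ U : L, dm U + n = dm ⊤ → altSum dm n 0 U = g U) ∧
      (∀ (b : ℕ) (U : L), dm U + b + (n + 1) = dm ⊤ → altSum dm (n + 1) b U =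
        ∑ W ∈ Finset.univ.filter (fun W => U ≤ W ∧ dm U + b + 1 ≤ dm W),
          (-1 : ℂ) ^ (dm W + dm U + b + 1) * g W) from fun n => (key n).1
  intro n
  induction n with
  | zero =>
    have h0 : ∀ U : L, dm U + 0 = dm ⊤ → altSum dm 0 0 U = g U := fun U hU => by
      rw [altSum_zero]
      rcases lt_or_eq_of_le (le_top : U ≤ ⊤) with h | h
      · exact absurd (hdm h) (by omega)
      · rw [h, hg1]
    refine ⟨h0, fun b U hU => ?_⟩
    rw [altSum_one dm hdm]
    refine Finset.sum_congr (Finset.ext fun W => ?_) fun W hW => ?_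
    · simp only [above, mem_filter, mem_univ, true_and]
      have := hdm.monotone (le_top : W ≤ ⊤)
      constructor <;> rintro ⟨h1, h2⟩ <;> exact ⟨h1, by omega⟩
    · simp only [mem_filter, mem_univ, true_and] at hW
      have := hdm.monotone (le_top : W ≤ ⊤)
      rw [h0 W (by omega), show dm W + dm U + b + 1 = dm W + dm W by omega, Even.neg_one_pow ⟨_, rfl⟩, one_mul]
  | succ n ih =>
    obtain ⟨ih1, ih2⟩ := ih
    have h1 : ∀ U : L, dm U + (n + 1) = dm ⊤ → altSum dm (n + 1) 0 U = g U := fun U hU => by
      have hUne : U ≠ ⊤ := fun h => by rw [h] at hU; omega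
      have h := hg U hUne
      rw [← Finset.add_sum_erase _ _ (Finset.mem_filter.2 ⟨Finset.mem_univ U, le_rfl⟩)] at h
      rw [ih2 0 U (by omega)]
      have he : Finset.univ.filter (fun W => U ≤ W ∧ dm U + 0 + 1 ≤ dm W) =
          (Finset.univ.filter (fun W => U ≤ W)).erase U := by
        ext W
        simp only [mem_filter, mem_univ, true_and, mem_erase]
        constructor
        · rintro ⟨h1, h2⟩
          exact ⟨fun h => by rw [h] at h2; omega, h1⟩
        · rintro ⟨h1, h2⟩
          have := hdm (lt_of_le_of_ne h2 (Ne.symm h1))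
          exact ⟨h2, by omega⟩
      have hs : ((-1 : ℂ) ^ dm U) * ((-1 : ℂ) ^ dm U) = 1 := by
        rw [← pow_add]; exact Even.neg_one_pow ⟨_, rfl⟩
      have hterm : ∀ W ∈ (Finset.univ.filter (fun W => U ≤ W)).erase U,
          (-1 : ℂ) ^ (dm W + dm U + 0 + 1) * g W = (-(-1 : ℂ) ^ dm U) * ((-1 : ℂ) ^ dm W * g W) := fun W _ => by
        rw [add_zero, pow_succ, pow_add]; ring
      rw [he, Finset.sum_congr rfl hterm, ← Finset.mul_sum]
      linear_combination -((-1 : ℂ) ^ dm U) * h + g U * hs
    refine ⟨h1, fun b U hU => ?_⟩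
    rw [altSum_succ dm hdm, ih2 (b + 1) U (by omega), sub_eq_add_neg, ← Finset.sum_neg_distrib]
    have hsplit : Finset.univ.filter (fun W => U ≤ W ∧ dm U + b + 1 ≤ dm W) =
        above dm U (b + 1) ∪ Finset.univ.filter (fun W => U ≤ W ∧ dm U + (b + 1) + 1 ≤ dm W) := by
      ext W
      simp only [above, mem_filter, mem_univ, true_and, mem_union]
      constructor
      · intro h
        rcases lt_or_eq_of_le h.2 with h' | h'
        · exact Or.inr ⟨h.1, by omega⟩
        · exact Or.inl ⟨h.1, by omega⟩
      · rintro (h | h) <;> exact ⟨h.1, by omega⟩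
    rw [hsplit, Finset.sum_union]
    · congr 1
      · refine Finset.sum_congr rfl fun W hW => ?_
        simp only [above, mem_filter, mem_univ, true_and] at hW
        rw [h1 W (by omega), show dm W + dm U + b + 1 = dm W + dm W by omega, Even.neg_one_pow ⟨_, rfl⟩, one_mul]
      · refine Finset.sum_congr rfl fun W _ => ?_
        rw [show dm W + dm U + (b + 1) + 1 = dm W + dm U + b + 1 + 1 by omega, pow_succ]
        ring
    · rw [Finset.disjoint_left]
      intro W hW hW'
      simp only [above, mem_filter, mem_univ, true_and] at hW hW'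
      omega

end Cfsg.Lib.Linear.StValue
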