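import Cfsg.Agent.Lib.Linear.ParabolicBlocks
import Cfsg.Agent.Lib.Linear.SteinbergValue.Chains

/-!
# Fixed cosets of a standard parabolic and invariant flags
-/

set_option autoImplicit false

namespace Cfsg.Lib.Linear.StValue

open Matrix Cfsg.Lib.Linear.ParBlocks
open scoped MatrixGroups

section Tuples

variable {L : Type*} [PartialOrder L] [Fintype L] (dm : L → ℕ)

/-- A tuple of elements above `U` with the prescribed ranks. -/
def IsFlag {n : ℕ} (c : Fin n → ℕ) (U : L) (W : Fin n → L) : Prop :=
  Monotone W ∧ (∀ k, U ≤ W k) ∧ ∀ k, dm (W k) = dm U + pLE c k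

omit [Fintype L] in
theorem pLE_zero {n : ℕ} (c : Fin (n + 1) → ℕ) : pLE c 0 = c 0 := by
  rw [pLE, Finset.sum_eq_single (0 : Fin (n + 1))]
  · intro j hj hj0
    rw [Finset.mem_filter] at hj
    exact absurd (le_antisymm hj.2 (Fin.zero_le j)) hj0
  · simp

omit [Fintype L] in
theorem pLE_succ {n : ℕ} (c : Fin (n + 1) → ℕ) (k : Fin n) :
    pLE c k.succ = c 0 + pLE (fun i => c i.succ) k := by
  rw [pLE, pLE, Finset.sum_filter, Finset.sum_filter, Fin.sum_univ_succ, if_pos (Fin.zero_le _)]
  simp only [Fin.succ_le_succ_iff]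

theorem chains_eq_card : ∀ (n : ℕ) (c : Fin n → ℕ) (U : L),
    chains dm n c U = Nat.card {W : Fin n → L // IsFlag dm c U W} := by
  classical
  intro n
  induction n with
  | zero =>
    intro c U
    have : Subsingleton {W : Fin 0 → L // IsFlag dm c U W} := ⟨fun a b => Subtype.ext (funext fun i => i.elim0)⟩
    rw [chains, Nat.card_of_subsingleton (α := {W : Fin 0 → L // IsFlag dm c U W})
      ⟨fun i => i.elim0, fun i => i.elim0, fun i => i.elim0, fun i => i.elim0⟩]
  | succ n ih =>
    intro c U
    rw [chains, Finset.sum_congr rfl (fun W _ => ih _ W), ← Finset.sum_coe_sort, ← Nat.card_sigma]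
    refine Nat.card_congr
      { toFun := fun p => ⟨Fin.cons p.1.1 p.2.1, ?_, ?_, ?_⟩
        invFun := fun W => ⟨⟨W.1 0, ?_⟩, ⟨fun k => W.1 k.succ, ?_, ?_, ?_⟩⟩
        left_inv := ?_
        right_inv := ?_ }
    · obtain ⟨⟨W0, h0⟩, W, hm, hU, -⟩ := p
      refine fun i j hij => ?_
      induction i using Fin.cases with
      | zero =>
        induction j using Fin.cases with
        | zero => exact le_rfl
        | succ j => simpa using hU j
      | succ i =>
        induction j using Fin.cases with
        | zero => exact absurd hij (not_le.2 (Fin.succ_pos i))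
        | succ j => simpa using hm (Fin.succ_le_succ_iff.1 hij)
    · obtain ⟨⟨W0, h0⟩, W, hm, hU, -⟩ := p
      simp only [above, Finset.mem_filter] at h0
      exact Fin.forall_fin_succ.2 ⟨by simpa using h0.2.1, fun k => by simpa using h0.2.1.trans (hU k)⟩
    · obtain ⟨⟨W0, h0⟩, W, hm, hU, hd⟩ := p
      simp only [above, Finset.mem_filter] at h0
      refine Fin.forall_fin_succ.2 ⟨by simpa [pLE_zero] using h0.2.2, fun k => ?_⟩
      simp only [Fin.cons_succ]
      rw [hd k, h0.2.2, pLE_succ, add_assoc]
    · simp only [above, Finset.mem_filter, Finset.mem_univ, true_and]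
      exact ⟨W.2.2.1 0, by rw [W.2.2.2 0, pLE_zero]⟩
    · exact fun i j hij => W.2.1 (Fin.succ_le_succ_iff.2 hij)
    · exact fun k => W.2.1 (Fin.zero_le _)
    · intro k
      rw [W.2.2.2 k.succ, W.2.2.2 0, pLE_zero, pLE_succ, add_assoc]
    · rintro ⟨⟨W0, h0⟩, W, hW⟩
      rfl
    · intro W
      exact Subtype.ext (Fin.cons_self_tail W.1)

end Tuples

variable {n : ℕ} {F : Type*} [Field F]

local notation "V" => (Fin n → F)

variable (n F) in
/-- The span of the first `m` unit vectors. -/
noncomputable def stdSub (m : ℕ) : Submodule F (Fin n → F) :=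
  Submodule.span F ((fun i => Pi.single i 1) '' {i : Fin n | i.val < m})

theorem mem_stdSub {m : ℕ} {v : Fin n → F} : v ∈ stdSub n F m ↔ ∀ i : Fin n, m ≤ i.val → v i = 0 := by
  have e : ∀ i : Fin n, (Pi.single i 1 : Fin n → F) = Pi.basisFun F (Fin n) i := fun i =>
    (Pi.basisFun_apply F (Fin n) i).symm
  rw [stdSub, Set.image_congr (fun i _ => e i), Module.Basis.mem_span_image]
  constructor
  · intro h i hi
    by_contra hne
    have := h (Finsupp.mem_support_iff.2 (by simpa using hne) : i ∈ ((Pi.basisFun F (Fin n)).repr v).support)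
    exact absurd this (not_lt.2 hi)
  · intro h i hi
    rw [Finset.mem_coe, Finsupp.mem_support_iff] at hi
    by_contra hm
    exact hi (by simpa using h i (not_lt.1 hm))

theorem finrank_span_image {v : Fin n → (Fin n → F)} (hv : LinearIndependent F v) (m : ℕ) (hm : m ≤ n) :
    Module.finrank F (Submodule.span F (v '' {i : Fin n | i.val < m})) = m := by
  classical
  have : v '' {i : Fin n | i.val < m} = Set.range (fun j : Fin m => v (Fin.castLE hm j)) := by
    ext w
    constructor
    · rintro ⟨i, hi, rfl⟩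
      exact ⟨⟨i.val, hi⟩, rfl⟩
    · rintro ⟨j, rfl⟩
      exact ⟨Fin.castLE hm j, j.isLt, rfl⟩
  rw [this]
  exact (finrank_span_eq_card (hv.comp _ (Fin.castLE_injective hm))).trans (Fintype.card_fin m)

theorem finrank_stdSub (m : ℕ) (hm : m ≤ n) : Module.finrank F (stdSub n F m) = m :=
  finrank_span_image (by
    convert (Pi.basisFun F (Fin n)).linearIndependent using 2
    rw [Pi.basisFun_apply]) m hm

variable (c : Fin n → ℕ)

/-- The parabolic is the stabiliser of the standard flag. -/
theorem mem_parabolic_iff {g : GL (Fin n) F} :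
    g ∈ parabolicGL n F c ↔ ∀ k, (stdSub n F (pLE c k)).map (Matrix.toLin' (g : Matrix (Fin n) (Fin n) F)) ≤ stdSub n F (pLE c k) := by
  constructor
  · intro hg k
    rw [stdSub, Submodule.map_span, Submodule.span_le]
    rintro _ ⟨_, ⟨j, hj, rfl⟩, rfl⟩
    refine mem_stdSub.2 fun i hi => ?_
    rw [Matrix.toLin'_apply, Matrix.mulVec_single_one]
    have h1 := (lt_compLabel_iff c i k).2 hi
    have h2 : ¬ k.val < compLabel c j := fun h => absurd ((lt_compLabel_iff c j k).1 h) (not_le.2 hj)
    exact hg (show compLabel c j < compLabel c i by omega)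
  · intro h i j hij
    have hle : compLabel c i ≤ n := (Finset.card_le_univ _).trans (Fintype.card_fin n).le
    let k : Fin n := ⟨compLabel c j, by omega⟩
    have h1 : pLE c k ≤ i.val := (lt_compLabel_iff c i k).1 hij
    have h2 : j.val < pLE c k := not_le.1 fun hh => lt_irrefl _ ((lt_compLabel_iff c j k).2 hh)
    have h3 := h k ⟨Pi.single j 1, Submodule.subset_span ⟨j, h2, rfl⟩, rfl⟩
    have h4 := mem_stdSub.1 h3 i h1
    rwa [Matrix.toLin'_apply, Matrix.mulVec_single_one] at h4

theorem exists_adapted (W : Fin n → Submodule F V) (hm : Monotone W) (hd : ∀ k, Module.finrank F (W k) = pLE c k) :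
    ∀ m ≤ n, ∃ v : Fin m → V, LinearIndependent F v ∧ ∀ (k : Fin n) (i : Fin m), i.val < pLE c k → v i ∈ W k := by
  classical
  intro m
  induction m with
  | zero => exact fun _ => ⟨fun i => i.elim0, linearIndependent_empty_type, fun k i => i.elim0⟩
  | succ m ih =>
    intro hmn
    obtain ⟨v, hv, hvW⟩ := ih (by omega)
    have hrange : Module.finrank F (Submodule.span F (Set.range v)) = m :=
      (finrank_span_eq_card hv).trans (Fintype.card_fin m)
    let S : Finset (Fin n) := Finset.univ.filter fun k => m < pLE c k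
    obtain ⟨X, hX1, hX2⟩ : ∃ X : Submodule F V, m < Module.finrank F X ∧ ∀ k, m < pLE c k → X ≤ W k := by
      by_cases hS : S.Nonempty
      · refine ⟨W (S.min' hS), ?_, fun k hk => hm (S.min'_le k (Finset.mem_filter.2 ⟨Finset.mem_univ _, hk⟩))⟩
        rw [hd]
        exact (Finset.mem_filter.1 (S.min'_mem hS)).2
      · refine ⟨⊤, ?_, fun k hk => absurd ⟨k, Finset.mem_filter.2 ⟨Finset.mem_univ _, hk⟩⟩ hS⟩
        rw [finrank_top, Module.finrank_fintype_fun_eq_card, Fintype.card_fin]
        omega
    obtain ⟨y, hyX, hy⟩ := SetLike.not_le_iff_exists.1 (show ¬ X ≤ Submodule.span F (Set.range v) from fun h => by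
      have := Submodule.finrank_mono h
      omega)
    refine ⟨Fin.snoc v y, linearIndependent_finSnoc.2 ⟨hv, hy⟩, fun k i hi => ?_⟩
    induction i using Fin.lastCases with
    | last => rw [Fin.snoc_last]; exact hX2 k hi hyX
    | cast i => rw [Fin.snoc_castSucc]; exact hvW k i hi

theorem exists_flag_rep (hc : ∑ i, c i = n) (W : Fin n → Submodule F V) (hm : Monotone W)
    (hd : ∀ k, Module.finrank F (W k) = pLE c k) :
    ∃ h : GL (Fin n) F, ∀ k, (stdSub n F (pLE c k)).map (Matrix.toLin' (h : Matrix (Fin n) (Fin n) F)) = W k := by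
  obtain ⟨v, hv, hvW⟩ := exists_adapted c W hm hd n le_rfl
  let A : Matrix (Fin n) (Fin n) F := (Matrix.of v).transpose
  have hA : IsUnit A := Matrix.linearIndependent_cols_iff_isUnit.1 (show LinearIndependent F v from hv)
  refine ⟨hA.unit, fun k => ?_⟩
  rw [IsUnit.unit_spec, stdSub, Submodule.map_span, Set.image_image]
  have hcol : ∀ i, Matrix.toLin' A (Pi.single i 1) = v i := fun i => by
    rw [Matrix.toLin'_apply, Matrix.mulVec_single_one]
    rfl
  simp only [hcol]
  refine Submodule.eq_of_le_of_finrank_le (Submodule.span_le.2 ?_) ?_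
  · rintro _ ⟨i, hi, rfl⟩
    exact hvW k i hi
  · rw [hd, finrank_span_image hv _ (pLE_le c hc k)]

theorem map_toLin_mul (a b : GL (Fin n) F) (U : Submodule F V) :
    U.map (Matrix.toLin' ((a * b : GL (Fin n) F) : Matrix (Fin n) (Fin n) F)) =
      (U.map (Matrix.toLin' (b : Matrix (Fin n) (Fin n) F))).map (Matrix.toLin' (a : Matrix (Fin n) (Fin n) F)) := by
  rw [Units.val_mul, Matrix.toLin'_mul, Submodule.map_comp]

theorem map_toLin_one (U : Submodule F V) :
    U.map (Matrix.toLin' ((1 : GL (Fin n) F) : Matrix (Fin n) (Fin n) F)) = U := by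
  rw [Units.val_one, Matrix.toLin'_one, Submodule.map_id]

theorem toLin_injective (g : GL (Fin n) F) : Function.Injective (Matrix.toLin' (g : Matrix (Fin n) (Fin n) F)) :=
  fun a b h => by
    simp only [Matrix.toLin'_apply] at h
    exact Matrix.mulVec_injective_of_isUnit g.isUnit h

theorem finrank_map_toLin (g : GL (Fin n) F) (U : Submodule F V) :
    Module.finrank F (U.map (Matrix.toLin' (g : Matrix (Fin n) (Fin n) F))) = Module.finrank F U :=
  (Submodule.equivMapOfInjective _ (toLin_injective g) U).finrank_eq.symm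

theorem parabolic_map (hc : ∑ i, c i = n) {p : GL (Fin n) F} (hp : p ∈ parabolicGL n F c) (k : Fin n) :
    (stdSub n F (pLE c k)).map (Matrix.toLin' (p : Matrix (Fin n) (Fin n) F)) = stdSub n F (pLE c k) :=
  Submodule.eq_of_le_of_finrank_le ((mem_parabolic_iff c).1 hp k) (by rw [finrank_map_toLin])

variable [Fintype F]

/-- Fixed cosets of the parabolic are the invariant flags. -/
theorem fixedPointCharacter_eq (hc : ∑ i, c i = n) (x : GL (Fin n) F) :
    Cfsg.fixedPointCharacter (parabolicGL n F c) x =
      (Nat.card {W : Fin n → Submodule F V // Monotone W ∧ (∀ k, Module.finrank F (W k) = pLE c k) ∧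
        ∀ k, (W k).map (Matrix.toLin' (x : Matrix (Fin n) (Fin n) F)) ≤ W k} : ℂ) := by
  classical
  rw [Cfsg.fixedPointCharacter]
  congr 1
  let E : Fin n → Submodule F V := fun k => stdSub n F (pLE c k)
  let act : GL (Fin n) F → Fin n → Submodule F V := fun h k => (E k).map (Matrix.toLin' (h : Matrix (Fin n) (Fin n) F))
  have hmono : ∀ h, Monotone (act h) := fun h i j hij =>
    Submodule.map_mono (Submodule.span_mono (Set.image_mono fun l hl => lt_of_lt_of_le hl (pLE_mono c hij)))
  have hact : ∀ h h', act h = act h' ↔ (h⁻¹ * h' : GL (Fin n) F) ∈ parabolicGL n F c := by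
    intro h h'
    constructor
    · intro e
      refine (mem_parabolic_iff c).2 fun k => le_of_eq ?_
      have := congrFun e k
      simp only [act] at this
      rw [map_toLin_mul, ← this, ← map_toLin_mul, inv_mul_cancel, map_toLin_one]
    · intro hp
      funext k
      show (E k).map _ = (E k).map _
      conv_rhs => rw [show h' = h * (h⁻¹ * h') by group, map_toLin_mul, parabolic_map c hc hp k]
  have hfix : ∀ h : GL (Fin n) F, (h : GL (Fin n) F ⧸ parabolicGL n F c) ∈ MulAction.fixedBy _ x ↔
      ∀ k, (act h k).map (Matrix.toLin' (x : Matrix (Fin n) (Fin n) F)) ≤ act h k := by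
    intro h
    rw [MulAction.mem_fixedBy, MulAction.Quotient.smul_coe, QuotientGroup.eq, ← hact, smul_eq_mul]
    constructor
    · intro e k
      have := congrFun e k
      simp only [act] at this ⊢
      rw [← map_toLin_mul, this]
    · intro e
      funext k
      refine Submodule.eq_of_le_of_finrank_le ?_ ?_
      · simp only [act]; rw [map_toLin_mul]; exact e k
      · simp only [act]; rw [finrank_map_toLin, finrank_map_toLin]
  refine Nat.card_eq_of_bijective (fun z => ⟨act z.1.out, hmono _, fun k => ?_, (hfix _).1 ?_⟩) ⟨?_, ?_⟩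
  · show Module.finrank F ((E k).map _) = _
    rw [finrank_map_toLin, finrank_stdSub _ (pLE_le c hc k)]
  · rw [QuotientGroup.out_eq']; exact z.2
  · intro z z' e
    refine Subtype.ext ?_
    rw [← QuotientGroup.out_eq' z.1, ← QuotientGroup.out_eq' z'.1, QuotientGroup.eq]
    exact (hact _ _).1 (congrArg Subtype.val e)
  · rintro ⟨W, hm, hd, hinv⟩
    obtain ⟨h, hh⟩ := exists_flag_rep c hc W hm hd
    have hW : act h = W := funext hh
    refine ⟨⟨(h : GL (Fin n) F ⧸ parabolicGL n F c), (hfix h).2 (hW ▸ hinv)⟩, Subtype.ext ?_⟩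
    show act (Quotient.out (h : GL (Fin n) F ⧸ parabolicGL n F c)) = W
    rw [← hW, eq_comm, hact, ← QuotientGroup.eq, QuotientGroup.out_eq']

end Cfsg.Lib.Linear.StValue
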