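import Mathlib

/-!
# The alternating sum over the submodules of a semisimple module over `F[X]`

For a finite semisimple `F[X]`-module `M` with characteristic polynomial `χ` put
`val χ = ∏ (-1) ^ ((deg f - 1) m) * q ^ (deg f * m * (m - 1) / 2)`; then
`∑ (-1) ^ dim W * val (χ (M / W))` over all submodules `W` vanishes unless `M = 0`.
-/

set_option autoImplicit false

namespace Cfsg.Lib.Linear.StValue

open Polynomial UniqueFactorizationMonoid

universe u v

variable {F : Type u} [Field F] [Fintype F]

theorem finite_module (F : Type u) [Field F] [Finite F] {M : Type v} [AddCommGroup M] [Module F M]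
    [FiniteDimensional F M] : Finite M := Module.finite_of_finite F

section Modules

variable (M : Type v) [AddCommGroup M] [Module F M] [Module F[X] M] [IsScalarTower F F[X] M]
  [FiniteDimensional F M]

/-- Multiplication by the variable. -/
noncomputable def mulX : Module.End F M :=
  ((LinearMap.lsmul F[X] M) X).restrictScalars F

omit [Fintype F] [FiniteDimensional F M] in
theorem mulX_apply (m : M) : mulX (F := F) M m = (X : F[X]) • m := rfl

/-- The characteristic polynomial of a module. -/
noncomputable def chi : F[X] := (mulX (F := F) M).charpoly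

omit [Fintype F] in
theorem chi_monic : (chi (F := F) M).Monic := LinearMap.charpoly_monic _

omit [Fintype F] in
theorem chi_natDegree : (chi (F := F) M).natDegree = Module.finrank F M :=
  LinearMap.charpoly_natDegree _

omit [Fintype F] in
theorem chi_ne_zero : chi (F := F) M ≠ 0 := (chi_monic M).ne_zero

omit [Fintype F] [FiniteDimensional F M] in
theorem aeval_mulX (f : F[X]) (m : M) : aeval (mulX (F := F) M) f m = f • m := by
  induction f using Polynomial.induction_on' with
  | add p r hp hr => rw [map_add, LinearMap.add_apply, hp, hr, add_smul]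
  | monomial k a =>
    rw [← C_mul_X_pow_eq_monomial, map_mul, aeval_C, map_pow, aeval_X, Module.End.mul_apply,
      Module.algebraMap_end_apply, mul_smul, C_eq_algebraMap, algebraMap_smul]
    congr 1
    induction k with
    | zero => simp
    | succ k ih => rw [pow_succ', pow_succ', Module.End.mul_apply, ih, mulX_apply, mul_smul]

omit [Fintype F] in
instance finDim_sub (A : Submodule F[X] M) : FiniteDimensional F A :=
  Module.Finite.of_injective (A.subtype.restrictScalars F) A.injective_subtype

omit [Fintype F] in
instance finDim_quot (A : Submodule F[X] M) : FiniteDimensional F (M ⧸ A) :=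
  Module.Finite.of_surjective (A.mkQ.restrictScalars F) (Submodule.mkQ_surjective A)

variable {M}
variable {N : Type v} [AddCommGroup N] [Module F N] [Module F[X] N] [IsScalarTower F F[X] N]
  [FiniteDimensional F N]

omit [Fintype F] in
theorem chi_congr (e : M ≃ₗ[F[X]] N) : chi (F := F) M = chi (F := F) N := by
  rw [chi, chi, ← (e.restrictScalars F).charpoly_conj]
  congr 1
  refine LinearMap.ext fun x => ?_
  simp [LinearEquiv.conj_apply, mulX_apply]

omit [Fintype F] in
theorem chi_prod : chi (F := F) (M × N) = chi (F := F) M * chi (F := F) N := by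
  rw [chi, chi, chi, ← LinearMap.charpoly_prodMap]
  rfl

omit [Fintype F] in
theorem chi_eq_quotient_mul [IsSemisimpleModule F[X] M] (A : Submodule F[X] M) :
    chi (F := F) M = chi (F := F) A * chi (F := F) (M ⧸ A) := by
  obtain ⟨C, hC⟩ := exists_isCompl A
  rw [← chi_congr (A.prodEquivOfIsCompl C hC), chi_prod,
    chi_congr (A.quotientEquivOfIsCompl C hC).symm]

omit [Fintype F] in
theorem chi_subsingleton [Subsingleton M] : chi (F := F) M = 1 :=
  (chi_monic M).natDegree_eq_zero.1 (by rw [chi_natDegree, Module.finrank_zero_of_subsingleton])

omit [Fintype F] in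
theorem chi_simple [IsSimpleModule F[X] M] :
    Irreducible (chi (F := F) M) ∧
      Nonempty (M ≃ₗ[F[X]] F[X] ⧸ Ideal.span {chi (F := F) M}) := by
  classical
  obtain ⟨I, hI, ⟨e⟩⟩ := isSimpleModule_iff_quot_maximal.1 ‹IsSimpleModule F[X] M›
  obtain ⟨g, hg⟩ := Submodule.IsPrincipal.principal I
  have hI' : I = Ideal.span {g} := hg
  subst hI'
  have hg0 : g ≠ 0 := by
    rintro rfl
    exact Ring.ne_bot_of_isMaximal_of_not_isField hI (Polynomial.not_isField F) (Ideal.span_singleton_eq_bot.2 rfl)
  have hgi : Irreducible g := by
    have := Ideal.span_singleton_prime hg0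
    exact (this.1 hI.isPrime).irreducible
  have hn : Irreducible (normalize g) := (associated_normalize g).irreducible hgi
  have hmon : (normalize g).Monic := monic_normalize hg0
  have hsp : Ideal.span {g} = Ideal.span {normalize g} := Ideal.span_singleton_eq_span_singleton.2 (associated_normalize g)
  let e' : M ≃ₗ[F[X]] F[X] ⧸ Ideal.span {normalize g} := e.trans (Submodule.quotEquivOfEq _ _ hsp)
  have hne : Nontrivial M := IsSimpleModule.nontrivial F[X] M
  have hann : aeval (mulX (F := F) M) (normalize g) = 0 := by
    refine LinearMap.ext fun m => ?_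
    rw [aeval_mulX, LinearMap.zero_apply]
    refine e'.injective ?_
    rw [map_smul, map_zero]
    obtain ⟨r, hr⟩ := Submodule.mkQ_surjective _ (e' m)
    rw [← hr, ← map_smul, Submodule.mkQ_apply, Submodule.Quotient.mk_eq_zero, smul_eq_mul,
      Ideal.mem_span_singleton]
    exact dvd_mul_right _ _
  have hmin : minpoly F (mulX (F := F) M) = normalize g :=
    eq_of_monic_of_associated (minpoly.monic (Algebra.IsIntegral.isIntegral _)) hmon
      ((hn.dvd_iff.1 (minpoly.dvd F _ hann)).resolve_left (minpoly.not_isUnit F _)).symm
  have hdeg : Module.finrank F M = (normalize g).natDegree := by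
    rw [(e'.restrictScalars F).finrank_eq]
    exact finrank_quotient_span_eq_natDegree
  have hchi : chi (F := F) M = normalize g := by
    refine eq_of_monic_of_dvd_of_natDegree_le hmon (chi_monic M) ?_ (by rw [chi_natDegree, hdeg])
    rw [← hmin]
    exact LinearMap.minpoly_dvd_charpoly _
  rw [hchi]
  exact ⟨hn, ⟨e'⟩⟩



open scoped Classical in
/-- Counting the maps into a simple module. -/
theorem card_hom (A : Type v) [AddCommGroup A] [Module F A] [Module F[X] A] [IsScalarTower F F[X] A]
    [FiniteDimensional F A] [IsSimpleModule F[X] A] :
    ∀ (d : ℕ) (P : Type v) [AddCommGroup P] [Module F P] [Module F[X] P] [IsScalarTower F F[X] P]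
      [FiniteDimensional F P] [IsSemisimpleModule F[X] P], Module.finrank F P = d →
      Nat.card (P →ₗ[F[X]] A) = Fintype.card F ^
        ((chi (F := F) A).natDegree * (normalizedFactors (chi (F := F) P)).count (chi (F := F) A)) := by
  intro d
  induction d using Nat.strong_induction_on with
  | _ d ih =>
    intro P _ _ _ _ _ _ hd
    rcases subsingleton_or_nontrivial P with hP | hP
    · haveI : Subsingleton (P →ₗ[F[X]] A) := ⟨fun a b => LinearMap.ext fun x => by
        rw [Subsingleton.elim x 0, map_zero, map_zero]⟩
      rw [Nat.card_of_subsingleton (0 : P →ₗ[F[X]] A), chi_subsingleton (M := P), normalizedFactors_one]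
      simp
    haveI : Finite P := finite_module F
    obtain ⟨B, hB, -⟩ := (eq_bot_or_exists_atom_le (⊤ : Submodule F[X] P)).resolve_left top_ne_bot
    haveI : IsSimpleModule F[X] B := isSimpleModule_iff_isAtom.2 hB
    obtain ⟨C, hC⟩ := exists_isCompl B
    let eP := B.prodEquivOfIsCompl C hC
    have hlt : Module.finrank F C < d := by
      have h1 := (eP.restrictScalars F).finrank_eq
      rw [Module.finrank_prod, hd] at h1
      have : 0 < Module.finrank F B := by
        haveI := IsSimpleModule.nontrivial F[X] B
        exact Module.finrank_pos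
      omega
    obtain ⟨hirrA, ⟨eA⟩⟩ := chi_simple (F := F) (M := A)
    obtain ⟨hirrB, ⟨eB⟩⟩ := chi_simple (F := F) (M := B)
    have hcard : Nat.card (P →ₗ[F[X]] A) = Nat.card (B →ₗ[F[X]] A) * Nat.card (C →ₗ[F[X]] A) := by
      rw [← Nat.card_prod]
      exact Nat.card_congr (((LinearMap.coprodEquiv ℕ).toEquiv.trans
        (LinearEquiv.arrowCongr eP (LinearEquiv.refl F[X] A)).toEquiv).symm)
    have hhom : Nat.card (B →ₗ[F[X]] A) =
        Fintype.card F ^ if chi (F := F) B = chi (F := F) A then (chi (F := F) A).natDegree else 0 := by
      split_ifs with h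
      · let Q := F[X] ⧸ Ideal.span {chi (F := F) A}
        have e1 : (B →ₗ[F[X]] A) ≃ (Q →ₗ[F[X]] Q) :=
          (LinearEquiv.arrowCongr (eB.trans (Submodule.quotEquivOfEq _ _ (by rw [h]))) eA).toEquiv
        have e2 : (Q →ₗ[F[X]] Q) ≃ Q :=
          { toFun := fun φ => φ (Submodule.mkQ _ 1)
            invFun := fun y => Submodule.liftQ _ (LinearMap.toSpanSingleton F[X] Q y) (by
              intro r hr
              obtain ⟨z, rfl⟩ := Submodule.mkQ_surjective _ y
              rw [LinearMap.mem_ker, LinearMap.toSpanSingleton_apply, ← map_smul, Submodule.mkQ_apply,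
                Submodule.Quotient.mk_eq_zero, smul_eq_mul]
              exact Ideal.mul_mem_right _ _ hr)
            left_inv := fun φ => by
              refine Submodule.linearMap_qext _ (LinearMap.ext_ring ?_)
              simp
            right_inv := fun y => by
              show Submodule.liftQ _ _ _ (Submodule.mkQ _ 1) = y
              rw [Submodule.mkQ_apply, Submodule.liftQ_apply, LinearMap.toSpanSingleton_apply, one_smul] }
        rw [Nat.card_congr e1, Nat.card_congr e2, Nat.card_congr eA.symm.toEquiv,
          Module.natCard_eq_pow_finrank (K := F), Nat.card_eq_fintype_card, ← chi_natDegree]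
      · haveI : Subsingleton (B →ₗ[F[X]] A) := subsingleton_of_forall_eq 0 fun φ => by
          by_contra hφ
          exact h (chi_congr (LinearEquiv.ofBijective φ (LinearMap.bijective_of_ne_zero hφ)))
        rw [Nat.card_of_subsingleton (0 : B →ₗ[F[X]] A), pow_zero]
    rw [hcard, hhom, ih _ hlt C rfl, ← chi_congr eP, chi_prod,
      normalizedFactors_mul (chi_ne_zero _) (chi_ne_zero _), Multiset.count_add,
      normalizedFactors_irreducible hirrB, (chi_monic B).normalize_eq_self, Multiset.count_singleton,
      ← pow_add]
    congr 1
    by_cases h : chi (F := F) B = chi (F := F) A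
    · simp [h, mul_add]
    · simp [h, Ne.symm h]

end Modules

section Value

/-- The contribution of a factor with its multiplicity. -/
noncomputable def part (q : ℕ) (d m : ℕ) : ℂ :=
  (-1 : ℂ) ^ ((d - 1) * m) * (q : ℂ) ^ (d * m * (m - 1) / 2)

open scoped Classical in
/-- The value attached to a polynomial. -/
noncomputable def val (g : F[X]) : ℂ :=
  ∏ f ∈ (normalizedFactors g).toFinset, part (Fintype.card F) f.natDegree ((normalizedFactors g).count f)

theorem val_one : val (1 : F[X]) = 1 := by
  classical
  simp [val]

theorem part_succ (q d m : ℕ) : part q d (m + 1) = (-1 : ℂ) ^ (d - 1) * (q : ℂ) ^ (d * m) * part q d m := by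
  have h : d * (m + 1) * (m + 1 - 1) / 2 = d * m + d * m * (m - 1) / 2 := by
    rw [← Nat.mul_add_div (by norm_num : 0 < 2)]
    congr 1
    rcases m with _ | m
    · simp
    · simp only [Nat.add_sub_cancel]
      ring
  rw [part, part, h, pow_add, Nat.mul_succ, pow_add]
  ring

open scoped Classical in
theorem val_mul {f g : F[X]} (hf : Irreducible f) (hfm : f.Monic) (hg : g ≠ 0) :
    val (f * g) = (-1 : ℂ) ^ (f.natDegree - 1) *
      (Fintype.card F : ℂ) ^ (f.natDegree * (normalizedFactors g).count f) * val g := by
  rw [val, val, normalizedFactors_mul hf.ne_zero hg, normalizedFactors_irreducible hf, hfm.normalize_eq_self]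
  set s := normalizedFactors g with hs
  rw [Multiset.singleton_add, Multiset.toFinset_cons,
    Finset.prod_subset (s₁ := s.toFinset) (s₂ := insert f s.toFinset)
      (Finset.subset_insert _ _) (fun x hx hxs => by
        have : x ∉ s := fun h => hxs (Multiset.mem_toFinset.2 h)
        simp [Multiset.count_eq_zero.2 this, part]),
    ← Finset.insert_erase (Finset.mem_insert_self f s.toFinset),
    Finset.prod_insert (Finset.notMem_erase _ _), Finset.prod_insert (Finset.notMem_erase _ _),
    Multiset.count_cons_self, part_succ]
  rw [mul_assoc]
  congr 1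
  congr 1
  refine Finset.prod_congr rfl fun x hx => ?_
  rw [Multiset.count_cons_of_ne (Finset.ne_of_mem_erase hx)]

variable {M : Type v} [AddCommGroup M] [Module F M] [Module F[X] M] [IsScalarTower F F[X] M]
  [FiniteDimensional F M]

open scoped Classical in
/-- The signed sum of the values of the quotients. -/
theorem sum_val : ∀ (d : ℕ) (M : Type v) [AddCommGroup M] [Module F M] [Module F[X] M] [IsScalarTower F F[X] M]
    [FiniteDimensional F M] [IsSemisimpleModule F[X] M] [Fintype (Submodule F[X] M)],
    Module.finrank F M = d → 0 < d →
    ∑ W : Submodule F[X] M, (-1 : ℂ) ^ Module.finrank F W * val (chi (F := F) (M ⧸ W)) = 0 := by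
  intro d
  induction d using Nat.strong_induction_on with
  | _ d ih =>
    intro M _ _ _ _ _ _ _ hd hpos
    haveI : Finite M := finite_module F
    haveI : Nontrivial M := Module.nontrivial_of_finrank_pos (R := F) (hd ▸ hpos)
    obtain ⟨A, hA, -⟩ := (eq_bot_or_exists_atom_le (⊤ : Submodule F[X] M)).resolve_left top_ne_bot
    haveI : IsSimpleModule F[X] A := isSimpleModule_iff_isAtom.2 hA
    obtain ⟨hirr, -⟩ := chi_simple (F := F) (M := A)
    set f := chi (F := F) A with hf
    set e := f.natDegree with he
    have hepos : 1 ≤ e := hirr.natDegree_pos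
    have hfin : Module.finrank F A = e := (chi_natDegree _).symm
    set m := (normalizedFactors (chi (F := F) (M ⧸ A))).count f with hm
    set c : ℂ := (Fintype.card F : ℂ) ^ (e * m) with hc
    let h : Submodule F[X] M → ℂ := fun T => (-1 : ℂ) ^ Module.finrank F T * val (chi (F := F) (M ⧸ T))
    -- the submodules with a given join with the atom
    have key : ∀ T : Submodule F[X] M, A ≤ T →
        ∑ W ∈ Finset.univ.filter (fun W => W ⊔ A = T), h W = (1 - c) * h T := by
      intro T hT
      let A' : Submodule F[X] T := A.comap T.subtype
      let eA : A' ≃ₗ[F[X]] A := Submodule.comapSubtypeEquivOfLe hT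
      haveI : IsSimpleModule F[X] A' := IsSimpleModule.congr eA
      set S := (Finset.univ.filter fun W => W ⊔ A = T).erase T with hS
      have hmemT : T ∈ Finset.univ.filter (fun W => W ⊔ A = T) :=
        Finset.mem_filter.2 ⟨Finset.mem_univ _, sup_eq_left.2 hT⟩
      have hdisj : ∀ W ∈ S, Disjoint W A := by
        intro W hW
        obtain ⟨hWT, hW⟩ := Finset.mem_erase.1 hW
        rw [Finset.mem_filter] at hW
        refine (hA.le_iff.1 (inf_le_right : W ⊓ A ≤ A)).elim disjoint_iff.2 fun h' => absurd ?_ hWT
        rw [← hW.2, sup_eq_left.2 (inf_eq_right.1 h')]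
      -- their number
      have hcardS : S.card = Fintype.card F ^ (e * (normalizedFactors (chi (F := F) (T ⧸ A'))).count f) := by
        have hpt : {q : Submodule F[X] T // IsCompl A' q} ≃ S :=
          { toFun := fun q => ⟨q.1.map T.subtype, by
              have hmapA : A'.map T.subtype = A := by
                rw [Submodule.map_comap_subtype, inf_eq_right.2 hT]
              rw [hS, Finset.mem_erase, Finset.mem_filter]
              refine ⟨fun hq => ?_, Finset.mem_univ _, ?_⟩
              · have hq' : q.1 = ⊤ := Submodule.map_injective_of_injective T.injective_subtype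
                  (by rw [hq, Submodule.map_top, Submodule.range_subtype])
                have hd' : A' = ⊥ := by simpa [hq'] using q.2.disjoint
                exact hA.1 (by rw [← hmapA, hd', Submodule.map_bot])
              · rw [← hmapA, ← Submodule.map_sup, sup_comm, q.2.sup_eq_top, Submodule.map_top,
                  Submodule.range_subtype]⟩
            invFun := fun W => ⟨W.1.comap T.subtype, by
              have hW := Finset.mem_filter.1 (Finset.mem_of_mem_erase W.2)
              have hWT : W.1 ≤ T := hW.2 ▸ le_sup_left
              constructor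
              · rw [disjoint_iff, ← Submodule.comap_inf, inf_comm, (hdisj _ W.2).eq_bot, Submodule.comap_bot,
                  Submodule.ker_subtype]
              · rw [codisjoint_iff]
                refine Submodule.map_injective_of_injective T.injective_subtype ?_
                rw [Submodule.map_sup, Submodule.map_comap_subtype, Submodule.map_comap_subtype,
                  inf_eq_right.2 hT, inf_eq_right.2 hWT, sup_comm, hW.2, Submodule.map_top, Submodule.range_subtype]⟩
            left_inv := fun q => Subtype.ext (Submodule.comap_map_eq_of_injective T.injective_subtype _)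
            right_inv := fun W => Subtype.ext (by
              have hW := Finset.mem_filter.1 (Finset.mem_of_mem_erase W.2)
              show (W.1.comap T.subtype).map T.subtype = W.1
              rw [Submodule.map_comap_subtype, inf_eq_right.2 (hW.2 ▸ le_sup_left)]) }
        obtain ⟨C, hC⟩ := exists_isCompl A'
        letI : AddCommGroup A' := Submodule.addCommGroup A'
        let f0 := Submodule.isComplEquivProj A' ⟨C, hC⟩
        have hproj : {g : T →ₗ[F[X]] A' // ∀ x : A', g x = x} ≃ (T ⧸ A' →ₗ[F[X]] A') :=
          { toFun := fun g => A'.liftQ (g.1 - f0.1) fun x hx => by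
              rw [LinearMap.mem_ker, LinearMap.sub_apply, g.2 ⟨x, hx⟩, f0.2 ⟨x, hx⟩, sub_self]
            invFun := fun φ => ⟨f0.1 + φ ∘ₗ A'.mkQ, fun x => by
              simp [f0.2 x, (Submodule.Quotient.mk_eq_zero A').2 x.2]⟩
            left_inv := fun g => Subtype.ext (LinearMap.ext fun x => by simp)
            right_inv := fun φ => Submodule.linearMap_qext _ (LinearMap.ext fun x => by simp) }
        rw [← Fintype.card_coe, ← Nat.card_eq_fintype_card (α := S), ← Nat.card_congr hpt,
          Nat.card_congr (Submodule.isComplEquivProj A'), Nat.card_congr hproj,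
          card_hom (F := F) A' _ (T ⧸ A') rfl, chi_congr eA]
      -- each of them contributes the same
      have hterm : ∀ W ∈ S, h W = -(Fintype.card F : ℂ) ^
          (e * (normalizedFactors (chi (F := F) (M ⧸ T))).count f) * h T := by
        intro W hW
        have hWT : W ⊔ A = T := (Finset.mem_filter.1 (Finset.mem_of_mem_erase hW)).2
        have hfr : Module.finrank F T = Module.finrank F W + e := by
          have h2 := Submodule.finrank_sup_add_finrank_inf_eq (W.restrictScalars F) (A.restrictScalars F)
          rw [← Submodule.restrictScalars_sup, ← Submodule.restrictScalars_inf, hWT, (hdisj W hW).eq_bot,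
            Submodule.restrictScalars_bot, finrank_bot, add_zero] at h2
          rw [← hfin]
          exact h2
        have hchiT : chi (F := F) T = chi (F := F) W * f := by
          let W' : Submodule F[X] T := W.comap T.subtype
          let eW : W' ≃ₗ[F[X]] W := Submodule.comapSubtypeEquivOfLe (hWT ▸ le_sup_left)
          have hWA : IsCompl W' A' := by
            constructor
            · rw [disjoint_iff, ← Submodule.comap_inf, (hdisj _ hW).eq_bot, Submodule.comap_bot, Submodule.ker_subtype]
            · rw [codisjoint_iff]
              refine Submodule.map_injective_of_injective T.injective_subtype ?_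
              rw [Submodule.map_sup, Submodule.map_comap_subtype, Submodule.map_comap_subtype,
                inf_eq_right.2 hT, inf_eq_right.2 (hWT ▸ le_sup_left), hWT, Submodule.map_top, Submodule.range_subtype]
          have e1 : chi (F := F) W' = chi (F := F) W := chi_congr eW
          have e2 : chi (F := F) A' = f := chi_congr eA
          rw [← chi_congr (M := W' × A') (W'.prodEquivOfIsCompl A' hWA), chi_prod, e1, e2]
        have hq : chi (F := F) (M ⧸ W) = f * chi (F := F) (M ⧸ T) := by
          refine mul_left_cancel₀ (chi_ne_zero (F := F) W) ?_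
          rw [← chi_eq_quotient_mul, ← mul_assoc, ← hchiT, ← chi_eq_quotient_mul]
        simp only [h]
        rw [hq, val_mul hirr (chi_monic _) (chi_ne_zero _), hfr, ← he, pow_add]
        have : (-1 : ℂ) ^ e = -(-1 : ℂ) ^ (e - 1) := by
          conv_lhs => rw [show e = e - 1 + 1 by omega, pow_succ]
          ring
        rw [this]
        ring
      rw [← Finset.add_sum_erase _ _ hmemT, ← hS, Finset.sum_congr rfl hterm, Finset.sum_const, hcardS,
        nsmul_eq_mul, Nat.cast_pow]
      have hcount : m = (normalizedFactors (chi (F := F) (T ⧸ A'))).count f +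
          (normalizedFactors (chi (F := F) (M ⧸ T))).count f := by
        have h1 : chi (F := F) A' * (chi (F := F) (T ⧸ A') * chi (F := F) (M ⧸ T)) = f * chi (F := F) (M ⧸ A) := by
          rw [← mul_assoc, ← chi_eq_quotient_mul, ← chi_eq_quotient_mul, hf, ← chi_eq_quotient_mul]
        rw [chi_congr eA] at h1
        rw [hm, ← mul_left_cancel₀ hirr.ne_zero h1, normalizedFactors_mul (chi_ne_zero _) (chi_ne_zero _),
          Multiset.count_add]
      rw [hc, hcount, mul_add, pow_add]
      ring
    have hsplit : ∑ W, h W = ∑ T ∈ Finset.univ.filter (fun T => A ≤ T),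
        ∑ W ∈ Finset.univ.filter (fun W => W ⊔ A = T), h W :=
      (Finset.sum_fiberwise_of_maps_to (g := fun W => W ⊔ A)
        (fun W _ => Finset.mem_filter.2 ⟨Finset.mem_univ _, le_sup_right⟩) h).symm
    show ∑ W, h W = 0
    rw [hsplit, Finset.sum_congr rfl (fun T hT => key T (Finset.mem_filter.1 hT).2), ← Finset.mul_sum]
    by_cases hQ : Subsingleton (M ⧸ A)
    · rw [hc, hm, chi_subsingleton, normalizedFactors_one]
      simp
    · haveI : Nontrivial (M ⧸ A) := not_subsingleton_iff_nontrivial.1 hQ
      haveI : Finite (M ⧸ A) := finite_module F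
      letI : Fintype (Submodule F[X] (M ⧸ A)) := Fintype.ofFinite _
      have hlt : Module.finrank F (M ⧸ A) < d := by
        have hh : Module.finrank F (M ⧸ A) + e = d := by
          rw [← hd, ← chi_natDegree (F := F) (M := M), chi_eq_quotient_mul (F := F) A,
            natDegree_mul (chi_ne_zero _) (chi_ne_zero _), ← hf, ← he, chi_natDegree]
          ring
        omega
      have hz := ih _ hlt (M ⧸ A) rfl Module.finrank_pos
      refine mul_eq_zero_of_right _ ?_
      refine Eq.trans ?_ (mul_eq_zero_of_right ((-1 : ℂ) ^ e) hz)
      rw [Finset.mul_sum]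
      refine (Finset.sum_bij' (fun W _ => W.comap A.mkQ) (fun T _ => T.map A.mkQ)
        (fun W _ => Finset.mem_filter.2 ⟨Finset.mem_univ _, fun x hx => by
          simp [Submodule.mem_comap, (Submodule.Quotient.mk_eq_zero A).2 hx]⟩)
        (fun _ _ => Finset.mem_univ _)
        (fun W _ => Submodule.map_comap_eq_of_surjective (Submodule.mkQ_surjective A) W)
        (fun T hT => by
          rw [Submodule.comap_map_mkQ, sup_eq_right.2 (Finset.mem_filter.1 hT).2])
        (fun W _ => ?_)).symm
      have hchi : chi (F := F) ((M ⧸ A) ⧸ W) = chi (F := F) (M ⧸ W.comap A.mkQ) := by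
        rw [show W = (W.comap A.mkQ).map A.mkQ from
          (Submodule.map_comap_eq_of_surjective (Submodule.mkQ_surjective A) W).symm]
        rw [Submodule.comap_map_mkQ, sup_eq_right.2 (fun x hx => by
          simp [Submodule.mem_comap, (Submodule.Quotient.mk_eq_zero A).2 hx])]
        exact chi_congr (Submodule.quotientQuotientEquivQuotient A (W.comap A.mkQ) (fun x hx => by
          simp [Submodule.mem_comap, (Submodule.Quotient.mk_eq_zero A).2 hx]))
      have hfr : Module.finrank F (W.comap A.mkQ) = e + Module.finrank F W := by
        let B := W.comap A.mkQ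
        have hAB : A ≤ B := fun x hx => by simp [B, Submodule.mem_comap, (Submodule.Quotient.mk_eq_zero A).2 hx]
        have h1 := ((A.mkQ ∘ₗ B.subtype).restrictScalars F).finrank_range_add_finrank_ker
        have hr : LinearMap.range ((A.mkQ ∘ₗ B.subtype).restrictScalars F) = W.restrictScalars F := by
          ext y
          simp only [LinearMap.mem_range, LinearMap.coe_restrictScalars, LinearMap.coe_comp, Function.comp_apply,
            Submodule.restrictScalars_mem]
          constructor
          · rintro ⟨x, rfl⟩
            exact x.2
          · intro hy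
            obtain ⟨x, rfl⟩ := Submodule.mkQ_surjective A y
            exact ⟨⟨x, hy⟩, rfl⟩
        have hk : Module.finrank F (LinearMap.ker ((A.mkQ ∘ₗ B.subtype).restrictScalars F)) = e := by
          rw [← hfin]
          have hk' : LinearMap.ker ((A.mkQ ∘ₗ B.subtype).restrictScalars F) =
              (A.comap B.subtype).restrictScalars F := by
            ext x; simp [Submodule.Quotient.mk_eq_zero]
          rw [hk']
          exact ((Submodule.comapSubtypeEquivOfLe hAB).restrictScalars F).finrank_eq
        rw [hr, hk] at h1
        rw [add_comm]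
        exact h1.symm
      simp only [h]
      rw [hchi, hfr, pow_add]
      ring

end Value

end Cfsg.Lib.Linear.StValue
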